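import Mathlib.Algebra.Category.Ring.Constructions
import Mathlib.RingTheory.IsTensorProduct
import Mathlib.RingTheory.TensorProduct.Free
import Mathlib.LinearAlgebra.FreeModule.Basic
import Mathlib.LinearAlgebra.Basis.VectorSpace

/-! Intersections of kernels commute with free base change. -/

universe u

open CategoryTheory TensorProduct

namespace Groth.Agent.H1VanBC

theorem exists_basis {R K A A' : Type u} [CommRing R] [CommRing K] [CommRing A] [CommRing A'] [Algebra R K]
    [Algebra R A] [Algebra A A'] [Algebra K A'] [Algebra R A'] [IsScalarTower R K A'] [IsScalarTower R A A']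
    [Algebra.IsPushout R A K A'] {ι : Type*} (b : Module.Basis ι R K) :
    ∃ bA : Module.Basis ι A A', ∀ i, bA i = algebraMap K A' (b i) := by
  refine ⟨(Algebra.TensorProduct.basis A b).map (Algebra.IsPushout.equiv R A K A').toLinearEquiv, fun i => ?_⟩
  rw [Module.Basis.map_apply, Algebra.TensorProduct.basis_apply]
  simp [Algebra.IsPushout.equiv_tmul]

/-- An element killed by every map lies in the extension of the intersection of the kernels. -/
theorem mem_map_iInf_ker {R K A A' : CommRingCat.{u}} {rK : R ⟶ K} {rA : R ⟶ A} {jA : A ⟶ A'} {jK : K ⟶ A'}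
    (hA : IsPushout rA rK jA jK) (hR : IsField R) {J : Type*} {B B' : J → CommRingCat.{u}}
    {jB : ∀ j, B j ⟶ B' j} {kB : ∀ j, K ⟶ B' j} (φ : ∀ j, A ⟶ B j) (ψ : ∀ j, A' ⟶ B' j)
    (hB : ∀ j, IsPushout (rA ≫ φ j) rK (jB j) (kB j))
    (hφ : ∀ j, jA ≫ ψ j = φ j ≫ jB j) (hψ : ∀ j, jK ≫ ψ j = kB j)
    (x : A') (hx : ∀ j, ψ j x = 0) : x ∈ Ideal.map jA.hom (⨅ j, RingHom.ker (φ j).hom) := by
  classical
  letI := hR.toField
  letI : Algebra R K := rK.hom.toAlgebra
  letI : Algebra R A := rA.hom.toAlgebra
  letI : Algebra A A' := jA.hom.toAlgebra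
  letI : Algebra K A' := jK.hom.toAlgebra
  letI : Algebra R A' := (rA ≫ jA).hom.toAlgebra
  haveI : IsScalarTower R A A' := IsScalarTower.of_algebraMap_eq fun _ => rfl
  haveI : IsScalarTower R K A' := IsScalarTower.of_algebraMap_eq fun r => congr($(hA.w) r)
  haveI : Algebra.IsPushout R A K A' := CommRingCat.isPushout_iff_isPushout.1 hA.flip |>.symm
  haveI : Module.Free R K := Module.Free.of_divisionRing R K
  let b := Module.Free.chooseBasis R K
  obtain ⟨bA, hbA⟩ := exists_basis (A := A) (A' := A') b
  rw [← bA.linearCombination_repr x, Finsupp.linearCombination_apply]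
  refine Submodule.sum_mem _ fun i _ => ?_
  simp only [Algebra.smul_def]
  refine Ideal.mul_mem_right _ _ (Ideal.mem_map_of_mem _ ((Submodule.mem_iInf _).2 fun j => ?_))
  show φ j (bA.repr x i) = 0
  letI : Algebra R (B j) := (rA ≫ φ j).hom.toAlgebra
  letI : Algebra (B j) (B' j) := (jB j).hom.toAlgebra
  letI : Algebra K (B' j) := (kB j).hom.toAlgebra
  letI : Algebra R (B' j) := ((rA ≫ φ j) ≫ jB j).hom.toAlgebra
  haveI : IsScalarTower R (B j) (B' j) := IsScalarTower.of_algebraMap_eq fun _ => rfl
  haveI : IsScalarTower R K (B' j) := IsScalarTower.of_algebraMap_eq fun r => congr($((hB j).w) r)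
  haveI : Algebra.IsPushout R (B j) K (B' j) := CommRingCat.isPushout_iff_isPushout.1 (hB j).flip |>.symm
  obtain ⟨bB, hbB⟩ := exists_basis (A := B j) (A' := B' j) b
  have h0 : Finsupp.linearCombination (B j) bB ((bA.repr x).mapRange (φ j) (map_zero (φ j).hom)) = 0 := by
    refine Eq.trans ?_ (hx j)
    conv_rhs => rw [← bA.linearCombination_repr x, Finsupp.linearCombination_apply, map_finsuppSum]
    rw [Finsupp.linearCombination_apply, Finsupp.sum_mapRange_index (by simp)]
    refine Finsupp.sum_congr fun l _ => ?_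
    rw [Algebra.smul_def, Algebra.smul_def, map_mul, hbA, hbB]
    exact congrArg₂ (· * ·) (congr($(hφ j) (bA.repr x l))).symm (congr($(hψ j) (b l))).symm
  have := congrArg (fun f => bB.repr f i) h0
  simpa using this

end Groth.Agent.H1VanBC
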