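import Groth.Agent.H1VanBC.Alg
import Groth.Agent.ModPairLib.Basic
import Groth.Prelude.Def_FDesc
import Mathlib.AlgebraicGeometry.Morphisms.Affine
import Mathlib.AlgebraicGeometry.Properties

/-! Reduced structures on closures of images and base change of fields. -/

set_option linter.style.haveILetI false

universe u

open CategoryTheory CategoryTheory.Limits AlgebraicGeometry TopologicalSpace Opposite

namespace Groth.Agent.H1VanBC

set_option backward.isDefEq.respectTransparency false in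
set_option backward.isDefEq.respectTransparency.types false in
/-- Sections over affine opens of a cartesian square form a pushout of rings. -/
theorem isPushout_appLE {P X T S : Scheme.{u}} {g : P ⟶ X} {iY : P ⟶ T} {iX : X ⟶ S} {f : T ⟶ S}
    (H : IsPullback g iY iX f) {US : S.Opens} (hS : IsAffineOpen US) {UT : T.Opens} (hT : IsAffineOpen UT)
    {UX : X.Opens} (hX : IsAffineOpen UX) (eT : UT ≤ f ⁻¹ᵁ US) (eX : UX ≤ iX ⁻¹ᵁ US)
    {W : P.Opens} (hW : W = g ⁻¹ᵁ UX ⊓ iY ⁻¹ᵁ UT) :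
    IsAffineOpen W ∧
    IsPushout (iX.appLE US UX eX) (f.appLE US UT eT) (g.appLE UX W (hW.trans_le inf_le_left))
      (iY.appLE UT W (hW.trans_le inf_le_right)) := by
  subst hW
  have h := Scheme.Hom.isPullback_resLE H eT eX (UY := g ⁻¹ᵁ UX ⊓ iY ⁻¹ᵁ UT) rfl
  haveI : IsAffine US.toScheme := hS
  haveI : IsAffine UT.toScheme := hT
  haveI : IsAffine UX.toScheme := hX
  haveI : IsAffineHom (f.resLE US UT eT) := isAffineHom_of_isAffine _
  refine ⟨IsAffine.of_isPullback h, ?_⟩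
  refine (isPushout_appTop_of_isPullback h).of_iso US.topIso UX.topIso UT.topIso
    (Scheme.Opens.topIso (g ⁻¹ᵁ UX ⊓ iY ⁻¹ᵁ UT)) ?_ ?_ ?_ ?_ <;>
  · simp [Scheme.Hom.appTop, Scheme.Opens.topIso_hom, eqToHom_op, Scheme.Hom.resLE_app_top]

/-- A section vanishes on the closure of the images of reduced schemes iff it pulls back to zero. -/
theorem mem_vanishingIdeal_iff {X : Scheme.{u}} {ι : Type*} (Z : ι → Scheme.{u}) (f : ∀ i, Z i ⟶ X)
    [∀ i, IsReduced (Z i)] (U : X.affineOpens) (s : Γ(X, U.1)) :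
    s ∈ (Scheme.IdealSheafData.vanishingIdeal (Closeds.closure (⋃ i, Set.range (f i)))).ideal U ↔
      ∀ i, (f i).app U.1 s = 0 := by
  rw [Scheme.IdealSheafData.vanishingIdeal_ideal, PrimeSpectrum.mem_vanishingIdeal]
  have hb : ∀ q : (Spec Γ(X, U.1) : Scheme.{u}), U.2.fromSpec q ∈ X.basicOpen s ↔ s ∉ (q : PrimeSpectrum Γ(X, U.1)).asIdeal := fun q => by
    show q ∈ U.2.fromSpec ⁻¹ᵁ X.basicOpen s ↔ _
    rw [U.2.fromSpec_preimage_basicOpen]
    rfl
  have e : (∀ q ∈ U.2.fromSpec ⁻¹' (closure (⋃ i, Set.range (f i))), s ∈ (q : PrimeSpectrum Γ(X, U.1)).asIdeal) ↔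
      Disjoint (X.basicOpen s : Set X) (closure (⋃ i, Set.range (f i))) := by
    constructor
    · intro h
      rw [Set.disjoint_left]
      intro x hx hxc
      obtain ⟨q, rfl⟩ : x ∈ Set.range U.2.fromSpec := by
        rw [IsAffineOpen.range_fromSpec]; exact X.basicOpen_le s hx
      exact (hb q).1 hx (h q hxc)
    · intro h q hq
      by_contra hqs
      exact Set.disjoint_left.1 h ((hb q).2 hqs) hq
  refine Iff.trans ?_ (e.trans ?_)
  · rfl
  rw [show Disjoint (X.basicOpen s : Set X) (closure (⋃ i, Set.range (f i))) ↔ Disjoint (X.basicOpen s : Set X) (⋃ i, Set.range (f i)) from ⟨fun h => h.mono_right subset_closure, fun h => h.closure_right (X.basicOpen s).2⟩, Set.disjoint_iUnion_right]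
  refine forall_congr' fun i => ?_
  rw [← basicOpen_eq_bot_iff, ← Scheme.preimage_basicOpen, Set.disjoint_right, ← SetLike.coe_set_eq, Opens.coe_bot,
    Set.eq_empty_iff_forall_notMem]
  simp only [Set.forall_mem_range]
  rfl

theorem isReduced_pullback {k : Type u} [Field k] {Z : Scheme.{u}} (p : Z ⟶ Spec (CommRingCat.of k))
    (h : ∀ z : Z, FBase.IsGeomReducedAt p z) (K : Type u) [Field K] [Algebra k K] :
    IsReduced (pullback p (Spec.map (CommRingCat.ofHom (algebraMap k K)))) :=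
  haveI : ∀ z : (pullback p (Spec.map (CommRingCat.ofHom (algebraMap k K))) : Scheme.{u}),
      _root_.IsReduced ((pullback p (Spec.map (CommRingCat.ofHom (algebraMap k K)))).presheaf.stalk z) :=
    fun z => h (pullback.fst p (Spec.map (CommRingCat.ofHom (algebraMap k K))) z) K z rfl
  isReduced_of_isReduced_stalk _

theorem isReduced_of_geomReduced {k : Type u} [Field k] {Z : Scheme.{u}} (p : Z ⟶ Spec (CommRingCat.of k))
    (h : ∀ z : Z, FBase.IsGeomReducedAt p z) : IsReduced Z := by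
  haveI := isReduced_pullback p h k
  haveI : IsIso (Spec.map (CommRingCat.ofHom (algebraMap k k))) := by
    rw [show CommRingCat.ofHom (algebraMap k k) = 𝟙 (CommRingCat.of k) from rfl, Spec.map_id]; infer_instance
  exact isReduced_of_isOpenImmersion (inv (pullback.fst p (Spec.map (CommRingCat.ofHom (algebraMap k k)))))

/-- Reduced closures commute with extension of the base field. -/
theorem vanishingIdeal_baseChange {k : Type u} [Field k] {X : Scheme.{u}}
    (p : X ⟶ Spec (CommRingCat.of k)) {ι : Type u} (Z : ι → Scheme.{u}) (f : ∀ i, Z i ⟶ X)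
    (hred : ∀ (i : ι) (z : Z i), FBase.IsGeomReducedAt (f i ≫ p) z)
    (k' : Type u) [Field k'] [Algebra k k']
    (q : Spec (CommRingCat.of k') ⟶ Spec (CommRingCat.of k)) (hq : q = Spec.map (CommRingCat.ofHom (algebraMap k k')))
    (f' : ∀ i, pullback (f i ≫ p) q ⟶ pullback p q) (hf₁ : ∀ i, f' i ≫ pullback.fst p q = pullback.fst (f i ≫ p) q ≫ f i)
    (hf₂ : ∀ i, f' i ≫ pullback.snd p q = pullback.snd (f i ≫ p) q) :
    Scheme.IdealSheafData.vanishingIdeal (Closeds.closure (⋃ i, Set.range (f' i))) =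
      (Scheme.IdealSheafData.vanishingIdeal (Closeds.closure (⋃ i, Set.range (f i)))).comap (pullback.fst p q) := by
  haveI : ∀ i, IsReduced (Z i) := fun i => isReduced_of_geomReduced (f i ≫ p) (hred i)
  haveI : ∀ i, IsReduced (pullback (f i ≫ p) q) := fun i => by subst hq; exact isReduced_pullback (f i ≫ p) (hred i) k'
  let g := pullback.fst p q
  haveI : IsAffineHom q := inferInstance
  haveI : IsAffineHom g := MorphismProperty.pullback_fst _ _ ‹_›
  refine Scheme.IdealSheafData.ext_of_iSup_eq_top (fun U : X.affineOpens => ⟨g ⁻¹ᵁ U.1, U.2.preimage g⟩) ?_ fun U => ?_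
  · rw [eq_top_iff]
    intro x _
    obtain ⟨_, ⟨V, hV, rfl⟩, hxV, -⟩ := X.isBasis_affineOpens.exists_subset_of_mem_open (Set.mem_univ (g x)) isOpen_univ
    exact Opens.mem_iSup.2 ⟨⟨V, hV⟩, hxV⟩
  rw [ModPairLib.ideal_comap _ g U ⟨g ⁻¹ᵁ U.1, U.2.preimage g⟩ le_rfl]
  refine le_antisymm (fun x hx => ?_) (Ideal.map_le_iff_le_comap.2 fun s hs => ?_)
  · -- kernels
    rw [mem_vanishingIdeal_iff] at hx
    have hpo := isPushout_appLE (IsPullback.of_hasPullback p q) (isAffineOpen_top _) (isAffineOpen_top _) U.2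
      (UT := ⊤) (US := ⊤) (by simp) (by simp) (W := g ⁻¹ᵁ U.1) (by simp [g])
    let J := Σ i, {V : (Z i).affineOpens // V.1 ≤ f i ⁻¹ᵁ U.1}
    let W : ∀ j : J, (pullback (f j.1 ≫ p) q).Opens := fun j => pullback.fst (f j.1 ≫ p) q ⁻¹ᵁ j.2.1.1
    have hW : ∀ j : J, W j ≤ f' j.1 ⁻¹ᵁ (g ⁻¹ᵁ U.1) := fun j => by
      rw [← Scheme.Hom.comp_preimage, hf₁, Scheme.Hom.comp_preimage]
      exact (pullback.fst (f j.1 ≫ p) q).preimage_mono j.2.2
    have hR : IsField Γ(Spec (CommRingCat.of k), ⊤) :=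
      MulEquiv.isField (Field.toIsField k) (Scheme.ΓSpecIso (CommRingCat.of k)).commRingCatIsoToRingEquiv.toMulEquiv
    have key := mem_map_iInf_ker hpo.2 hR (J := J)
      (fun j => (f j.1).appLE U.1 j.2.1.1 j.2.2) (fun j => (f' j.1).appLE (g ⁻¹ᵁ U.1) (W j) (hW j))
      (fun j => by
        rw [Scheme.Hom.appLE_comp_appLE]
        exact (isPushout_appLE (IsPullback.of_hasPullback (f j.1 ≫ p) q) (isAffineOpen_top _) (isAffineOpen_top _)
          j.2.1.2 (UT := ⊤) (US := ⊤) (by simp) (by simp) (W := W j) (by simp [W])).2)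
      (fun j => by rw [Scheme.Hom.appLE_comp_appLE, Scheme.Hom.appLE_comp_appLE]; simp only [hf₁, g])
      (fun j => by rw [Scheme.Hom.appLE_comp_appLE]; simp only [hf₂])
      x (fun j => by
        show ((f' j.1).app (g ⁻¹ᵁ U.1) ≫ (pullback (f j.1 ≫ p) q).presheaf.map (homOfLE (hW j)).op) x = 0
        rw [CommRingCat.comp_apply, hx j.1, map_zero])
    refine Ideal.map_mono (fun s hs => ?_) key
    rw [mem_vanishingIdeal_iff]
    intro i
    refine (Z i).sheaf.eq_of_locally_eq' (fun V : {V : (Z i).affineOpens // V.1 ≤ f i ⁻¹ᵁ U.1} => V.1.1) _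
      (fun V => homOfLE V.2) ?_ _ _ fun V => ?_
    · intro z hz
      obtain ⟨_, ⟨V, hV, rfl⟩, hzV, hVU⟩ := (Z i).isBasis_affineOpens.exists_subset_of_mem_open hz (f i ⁻¹ᵁ U.1).isOpen
      exact Opens.mem_iSup.2 ⟨⟨⟨V, hV⟩, hVU⟩, hzV⟩
    · exact ((Submodule.mem_iInf _).1 hs ⟨i, V⟩).trans (map_zero ((Z i).presheaf.map (homOfLE V.2).op).hom).symm
  · rw [Ideal.mem_comap, mem_vanishingIdeal_iff]
    rw [mem_vanishingIdeal_iff] at hs
    intro i
    show ((g.appLE U.1 (g ⁻¹ᵁ U.1) le_rfl) ≫ (f' i).app (g ⁻¹ᵁ U.1)) s = 0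
    rw [Scheme.Hom.appLE_eq_app, ← Scheme.Hom.comp_app, Scheme.Hom.congr_app (hf₁ i) U.1, Scheme.Hom.comp_app]
    show (pullback _ q).presheaf.map _ ((pullback.fst (f i ≫ p) q).app _ ((f i).app U.1 s)) = 0
    rw [hs i, map_zero, map_zero]

end Groth.Agent.H1VanBC
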